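import Cfsg.Agent.Lib.ToddCox.ONX.Data0
set_option autoImplicit false
set_option maxRecDepth 100000
namespace Cfsg.Agent.Lib.ToddCox.ONX
def eT_1_3 (j : ℕ) : ℕ := bif Nat.blt j 2 then E_1 else E_2
def eT_0_3 (j : ℕ) : ℕ := bif Nat.blt j 1 then E_0 else (eT_1_3 j)
def eT (j : ℕ) : ℕ := (eT_0_3 j)
noncomputable def chunkF (h : ℕ) : ℕ := Nat.rec (motive := fun _ => ℕ) (eT 0) (fun n _ => eT (Nat.succ n)) h
noncomputable def Eo (r : ℕ) : ℕ := Nat.land (Nat.shiftRight (chunkF (Nat.shiftRight r 8)) (Nat.mul (Nat.land r 255) 54)) 18014398509481983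
def invT : ℕ := 0xffef7cefae78df6d74cf2c70beeb6caeaa689e69648e28607de75c6da6585d65544d24503ce34c2ca2481871440c2040
def inv (y : ℕ) : ℕ := invOf invT y
def Wt_1_3 (j : ℕ) : List ℕ := bif Nat.blt j 2 then [nat_lit 0, nat_lit 3, nat_lit 0, nat_lit 3] else [nat_lit 0, nat_lit 4, nat_lit 0, nat_lit 4]
def Wt_0_3 (j : ℕ) : List ℕ := bif Nat.blt j 1 then [nat_lit 0, nat_lit 2, nat_lit 0, nat_lit 2] else (Wt_1_3 j)
def Wt_3_5 (j : ℕ) : List ℕ := bif Nat.blt j 4 then [nat_lit 0, nat_lit 5, nat_lit 0, nat_lit 5] else [nat_lit 6, nat_lit 6, nat_lit 0, nat_lit 5]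
def Wt_5_7 (j : ℕ) : List ℕ := bif Nat.blt j 6 then [nat_lit 7, nat_lit 5, nat_lit 0, nat_lit 7] else [nat_lit 1, nat_lit 3, nat_lit 1, nat_lit 3]
def Wt_3_7 (j : ℕ) : List ℕ := bif Nat.blt j 5 then (Wt_3_5 j) else (Wt_5_7 j)
def Wt_0_7 (j : ℕ) : List ℕ := bif Nat.blt j 3 then (Wt_0_3 j) else (Wt_3_7 j)
def Wt_7_9 (j : ℕ) : List ℕ := bif Nat.blt j 8 then [nat_lit 1, nat_lit 4, nat_lit 1, nat_lit 4] else [nat_lit 1, nat_lit 5, nat_lit 1, nat_lit 5]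
def Wt_9_11 (j : ℕ) : List ℕ := bif Nat.blt j 10 then [nat_lit 2, nat_lit 4, nat_lit 2, nat_lit 4] else [nat_lit 2, nat_lit 5, nat_lit 2, nat_lit 5]
def Wt_7_11 (j : ℕ) : List ℕ := bif Nat.blt j 9 then (Wt_7_9 j) else (Wt_9_11 j)
def Wt_11_13 (j : ℕ) : List ℕ := bif Nat.blt j 12 then [nat_lit 3, nat_lit 5, nat_lit 3, nat_lit 5] else [nat_lit 5, nat_lit 6, nat_lit 6, nat_lit 0]
def Wt_13_15 (j : ℕ) : List ℕ := bif Nat.blt j 14 then [nat_lit 6, nat_lit 0, nat_lit 5, nat_lit 6] else [nat_lit 6, nat_lit 0, nat_lit 1, nat_lit 3, nat_lit 4, nat_lit 7, nat_lit 7, nat_lit 5, nat_lit 2]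
def Wt_11_15 (j : ℕ) : List ℕ := bif Nat.blt j 13 then (Wt_11_13 j) else (Wt_13_15 j)
def Wt_7_15 (j : ℕ) : List ℕ := bif Nat.blt j 11 then (Wt_7_11 j) else (Wt_11_15 j)
def Wt_0_15 (j : ℕ) : List ℕ := bif Nat.blt j 7 then (Wt_0_7 j) else (Wt_7_15 j)
def Wt_15_17 (j : ℕ) : List ℕ := bif Nat.blt j 16 then [nat_lit 2, nat_lit 1, nat_lit 2, nat_lit 1, nat_lit 2, nat_lit 1] else [nat_lit 7, nat_lit 2, nat_lit 5, nat_lit 6, nat_lit 6, nat_lit 4, nat_lit 3, nat_lit 1, nat_lit 0]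
def Wt_17_19 (j : ℕ) : List ℕ := bif Nat.blt j 18 then [nat_lit 0, nat_lit 1, nat_lit 3, nat_lit 4, nat_lit 7, nat_lit 7, nat_lit 5, nat_lit 2, nat_lit 6] else [nat_lit 3, nat_lit 0, nat_lit 3, nat_lit 0]
def Wt_15_19 (j : ℕ) : List ℕ := bif Nat.blt j 17 then (Wt_15_17 j) else (Wt_17_19 j)
def Wt_19_21 (j : ℕ) : List ℕ := bif Nat.blt j 20 then [nat_lit 1, nat_lit 0, nat_lit 7, nat_lit 2, nat_lit 5, nat_lit 6, nat_lit 6, nat_lit 4, nat_lit 3] else [nat_lit 3, nat_lit 1, nat_lit 3, nat_lit 1]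
def Wt_21_23 (j : ℕ) : List ℕ := bif Nat.blt j 22 then [nat_lit 5, nat_lit 3, nat_lit 5, nat_lit 3] else [nat_lit 4, nat_lit 0, nat_lit 4, nat_lit 0]
def Wt_19_23 (j : ℕ) : List ℕ := bif Nat.blt j 21 then (Wt_19_21 j) else (Wt_21_23 j)
def Wt_15_23 (j : ℕ) : List ℕ := bif Nat.blt j 19 then (Wt_15_19 j) else (Wt_19_23 j)
def Wt_23_25 (j : ℕ) : List ℕ := bif Nat.blt j 24 then [nat_lit 5, nat_lit 0, nat_lit 7, nat_lit 7] else [nat_lit 1, nat_lit 3, nat_lit 4, nat_lit 7, nat_lit 7, nat_lit 5, nat_lit 2, nat_lit 6, nat_lit 0]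
def Wt_25_27 (j : ℕ) : List ℕ := bif Nat.blt j 26 then [nat_lit 1, nat_lit 0, nat_lit 1, nat_lit 0, nat_lit 1, nat_lit 0] else [nat_lit 63, nat_lit 0, nat_lit 1, nat_lit 3, nat_lit 4, nat_lit 7, nat_lit 7, nat_lit 5, nat_lit 2, nat_lit 6]
def Wt_23_27 (j : ℕ) : List ℕ := bif Nat.blt j 25 then (Wt_23_25 j) else (Wt_25_27 j)
def Wt_27_29 (j : ℕ) : List ℕ := bif Nat.blt j 28 then [nat_lit 0, nat_lit 0, nat_lit 63] else [nat_lit 1, nat_lit 1, nat_lit 63]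
def Wt_29_31 (j : ℕ) : List ℕ := bif Nat.blt j 30 then [nat_lit 5, nat_lit 5, nat_lit 63] else [nat_lit 5, nat_lit 1, nat_lit 5, nat_lit 1]
def Wt_27_31 (j : ℕ) : List ℕ := bif Nat.blt j 29 then (Wt_27_29 j) else (Wt_29_31 j)
def Wt_23_31 (j : ℕ) : List ℕ := bif Nat.blt j 27 then (Wt_23_27 j) else (Wt_27_31 j)
def Wt_15_31 (j : ℕ) : List ℕ := bif Nat.blt j 23 then (Wt_15_23 j) else (Wt_23_31 j)
def Wt_0_31 (j : ℕ) : List ℕ := bif Nat.blt j 15 then (Wt_0_15 j) else (Wt_15_31 j)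
def Wt_32_34 (j : ℕ) : List ℕ := bif Nat.blt j 33 then [nat_lit 4, nat_lit 7, nat_lit 7, nat_lit 5, nat_lit 2, nat_lit 6, nat_lit 0, nat_lit 1, nat_lit 3] else [nat_lit 63, nat_lit 5, nat_lit 4, nat_lit 5, nat_lit 4, nat_lit 5, nat_lit 4]
def Wt_31_34 (j : ℕ) : List ℕ := bif Nat.blt j 32 then [nat_lit 4, nat_lit 3, nat_lit 4, nat_lit 3, nat_lit 4, nat_lit 3] else (Wt_32_34 j)
def Wt_34_36 (j : ℕ) : List ℕ := bif Nat.blt j 35 then [nat_lit 63, nat_lit 1, nat_lit 63, nat_lit 1] else [nat_lit 63, nat_lit 3, nat_lit 63, nat_lit 3]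
def Wt_36_38 (j : ℕ) : List ℕ := bif Nat.blt j 37 then [nat_lit 63, nat_lit 0, nat_lit 63, nat_lit 0] else [nat_lit 63, nat_lit 7, nat_lit 63, nat_lit 6]
def Wt_34_38 (j : ℕ) : List ℕ := bif Nat.blt j 36 then (Wt_34_36 j) else (Wt_36_38 j)
def Wt_31_38 (j : ℕ) : List ℕ := bif Nat.blt j 34 then (Wt_31_34 j) else (Wt_34_38 j)
def Wt_38_40 (j : ℕ) : List ℕ := bif Nat.blt j 39 then [nat_lit 63, nat_lit 6, nat_lit 63, nat_lit 7] else [nat_lit 63, nat_lit 0, nat_lit 63, nat_lit 0, nat_lit 63]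
def Wt_40_42 (j : ℕ) : List ℕ := bif Nat.blt j 41 then [nat_lit 63, nat_lit 2, nat_lit 63, nat_lit 2] else [nat_lit 7, nat_lit 6, nat_lit 63]
def Wt_38_42 (j : ℕ) : List ℕ := bif Nat.blt j 40 then (Wt_38_40 j) else (Wt_40_42 j)
def Wt_42_44 (j : ℕ) : List ℕ := bif Nat.blt j 43 then [nat_lit 63, nat_lit 1, nat_lit 63, nat_lit 1, nat_lit 63] else [nat_lit 63, nat_lit 63, nat_lit 2, nat_lit 63, nat_lit 2]
def Wt_44_46 (j : ℕ) : List ℕ := bif Nat.blt j 45 then [nat_lit 63, nat_lit 5, nat_lit 63, nat_lit 5] else [nat_lit 63, nat_lit 4, nat_lit 63, nat_lit 4]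
def Wt_42_46 (j : ℕ) : List ℕ := bif Nat.blt j 44 then (Wt_42_44 j) else (Wt_44_46 j)
def Wt_38_46 (j : ℕ) : List ℕ := bif Nat.blt j 42 then (Wt_38_42 j) else (Wt_42_46 j)
def Wt_31_46 (j : ℕ) : List ℕ := bif Nat.blt j 38 then (Wt_31_38 j) else (Wt_38_46 j)
def Wt_46_48 (j : ℕ) : List ℕ := bif Nat.blt j 47 then [nat_lit 63, nat_lit 6, nat_lit 63, nat_lit 7, nat_lit 63] else [nat_lit 63, nat_lit 63, nat_lit 63]
def Wt_48_50 (j : ℕ) : List ℕ := bif Nat.blt j 49 then [nat_lit 63, nat_lit 63, nat_lit 7, nat_lit 63, nat_lit 6] else [nat_lit 63, nat_lit 63, nat_lit 5, nat_lit 63, nat_lit 5]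
def Wt_46_50 (j : ℕ) : List ℕ := bif Nat.blt j 48 then (Wt_46_48 j) else (Wt_48_50 j)
def Wt_50_52 (j : ℕ) : List ℕ := bif Nat.blt j 51 then [nat_lit 4, nat_lit 4, nat_lit 63] else [nat_lit 3, nat_lit 3, nat_lit 63]
def Wt_52_54 (j : ℕ) : List ℕ := bif Nat.blt j 53 then [nat_lit 2, nat_lit 2, nat_lit 63] else [nat_lit 6, nat_lit 7, nat_lit 63]
def Wt_50_54 (j : ℕ) : List ℕ := bif Nat.blt j 52 then (Wt_50_52 j) else (Wt_52_54 j)
def Wt_46_54 (j : ℕ) : List ℕ := bif Nat.blt j 50 then (Wt_46_50 j) else (Wt_50_54 j)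
def Wt_54_56 (j : ℕ) : List ℕ := bif Nat.blt j 55 then [nat_lit 3, nat_lit 2, nat_lit 3, nat_lit 7, nat_lit 3, nat_lit 7, nat_lit 2, nat_lit 6, nat_lit 3, nat_lit 6] else [nat_lit 63, nat_lit 0, nat_lit 7, nat_lit 2, nat_lit 5, nat_lit 6, nat_lit 6, nat_lit 4, nat_lit 3, nat_lit 1]
def Wt_56_58 (j : ℕ) : List ℕ := bif Nat.blt j 57 then [nat_lit 63, nat_lit 1, nat_lit 0, nat_lit 1, nat_lit 0, nat_lit 1, nat_lit 0] else [nat_lit 63, nat_lit 2, nat_lit 63, nat_lit 2, nat_lit 63]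
def Wt_54_58 (j : ℕ) : List ℕ := bif Nat.blt j 56 then (Wt_54_56 j) else (Wt_56_58 j)
def Wt_58_60 (j : ℕ) : List ℕ := bif Nat.blt j 59 then [nat_lit 63, nat_lit 63, nat_lit 63, nat_lit 63] else [nat_lit 63, nat_lit 7, nat_lit 63, nat_lit 6, nat_lit 63]
def Wt_60_62 (j : ℕ) : List ℕ := bif Nat.blt j 61 then [nat_lit 63, nat_lit 3, nat_lit 4, nat_lit 6, nat_lit 3, nat_lit 6, nat_lit 3, nat_lit 4, nat_lit 6, nat_lit 4, nat_lit 3, nat_lit 6] else [nat_lit 63, nat_lit 63, nat_lit 4, nat_lit 63, nat_lit 4, nat_lit 63]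
def Wt_58_62 (j : ℕ) : List ℕ := bif Nat.blt j 60 then (Wt_58_60 j) else (Wt_60_62 j)
def Wt_54_62 (j : ℕ) : List ℕ := bif Nat.blt j 58 then (Wt_54_58 j) else (Wt_58_62 j)
def Wt_46_62 (j : ℕ) : List ℕ := bif Nat.blt j 54 then (Wt_46_54 j) else (Wt_54_62 j)
def Wt_31_62 (j : ℕ) : List ℕ := bif Nat.blt j 46 then (Wt_31_46 j) else (Wt_46_62 j)
def Wt_0_62 (j : ℕ) : List ℕ := bif Nat.blt j 31 then (Wt_0_31 j) else (Wt_31_62 j)
def Wt (j : ℕ) : List ℕ := (Wt_0_62 j)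
def W (j : ℕ) : List ℕ := bif Nat.blt j 62 then Wt j else []
theorem W_ge (j : ℕ) (h : 62 ≤ j) : W j = [] := by
  unfold W
  rw [blt_false_of_le h]
  rfl
def Hl : List ℕ := []
def isH (y : ℕ) : Bool := List.elem y Hl
def Rb : List (List ℕ) := [[nat_lit 0, nat_lit 0],
  [nat_lit 1, nat_lit 0, nat_lit 1, nat_lit 0, nat_lit 1, nat_lit 0],
  [nat_lit 2, nat_lit 0, nat_lit 2, nat_lit 0],
  [nat_lit 3, nat_lit 0, nat_lit 3, nat_lit 0],
  [nat_lit 4, nat_lit 0, nat_lit 4, nat_lit 0],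
  [nat_lit 5, nat_lit 0, nat_lit 5, nat_lit 0],
  [nat_lit 1, nat_lit 1],
  [nat_lit 2, nat_lit 1, nat_lit 2, nat_lit 1, nat_lit 2, nat_lit 1],
  [nat_lit 3, nat_lit 1, nat_lit 3, nat_lit 1],
  [nat_lit 4, nat_lit 1, nat_lit 4, nat_lit 1],
  [nat_lit 5, nat_lit 1, nat_lit 5, nat_lit 1],
  [nat_lit 2, nat_lit 2],
  [nat_lit 3, nat_lit 2, nat_lit 3, nat_lit 2, nat_lit 3, nat_lit 2, nat_lit 3, nat_lit 2, nat_lit 3, nat_lit 2, nat_lit 3, nat_lit 2, nat_lit 3, nat_lit 2, nat_lit 3, nat_lit 2],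
  [nat_lit 4, nat_lit 2, nat_lit 4, nat_lit 2],
  [nat_lit 5, nat_lit 2, nat_lit 5, nat_lit 2],
  [nat_lit 3, nat_lit 3],
  [nat_lit 4, nat_lit 3, nat_lit 4, nat_lit 3, nat_lit 4, nat_lit 3],
  [nat_lit 5, nat_lit 3, nat_lit 5, nat_lit 3],
  [nat_lit 4, nat_lit 4],
  [nat_lit 5, nat_lit 4, nat_lit 5, nat_lit 4, nat_lit 5, nat_lit 4],
  [nat_lit 5, nat_lit 5],
  [nat_lit 7, nat_lit 7, nat_lit 5, nat_lit 0],
  [nat_lit 2, nat_lit 3, nat_lit 2, nat_lit 3, nat_lit 2, nat_lit 3, nat_lit 2, nat_lit 3, nat_lit 5, nat_lit 0],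
  [nat_lit 6, nat_lit 3, nat_lit 6, nat_lit 3, nat_lit 2, nat_lit 3, nat_lit 7, nat_lit 3, nat_lit 7, nat_lit 2],
  [nat_lit 6, nat_lit 2, nat_lit 6, nat_lit 2, nat_lit 3, nat_lit 2, nat_lit 7, nat_lit 2, nat_lit 7, nat_lit 3],
  [nat_lit 6, nat_lit 3, nat_lit 2, nat_lit 1, nat_lit 6, nat_lit 3, nat_lit 2, nat_lit 1, nat_lit 6, nat_lit 3, nat_lit 2, nat_lit 1, nat_lit 6, nat_lit 3, nat_lit 2, nat_lit 1, nat_lit 6, nat_lit 3, nat_lit 2, nat_lit 1],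
  [nat_lit 2, nat_lit 6, nat_lit 2, nat_lit 1, nat_lit 6, nat_lit 1, nat_lit 2, nat_lit 6, nat_lit 2, nat_lit 1, nat_lit 6],
  [nat_lit 3, nat_lit 6, nat_lit 3, nat_lit 4, nat_lit 6, nat_lit 4, nat_lit 3, nat_lit 6, nat_lit 3, nat_lit 4, nat_lit 6],
  [nat_lit 7, nat_lit 7, nat_lit 5, nat_lit 2, nat_lit 6, nat_lit 0, nat_lit 1, nat_lit 3, nat_lit 4],
  []]
def spT (j : ℕ) : ℕ := nat_lit 0x2400010036000020480000003a0000001600000002000060390000802e00002048000000160000001e0000002400000028000020480000003a000000480000002400000028000000160000000c0000004800000016000000000000004800002048000000000000001e0000000c00000026000000380000202000002014000000280000000c000000000000a038000020020000e0380000602a00002008000020220000201000006039000020060000c0380000a0390000200e0000a0380000002b0000402b000000220000001c0000001a0000001400000012000000100000402a0000602b0000000a000000080000000600000004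
def sp (j : ℕ) : ℕ := Nat.land (Nat.shiftRight (spT (Nat.shiftRight j 6)) (Nat.mul (Nat.land j 63) 32)) 4294967295
theorem Eo_lt (r : ℕ) : Eo r < 18014398509481984 := land54_lt _
def cT (j : ℕ) : ℕ := nat_lit 0x0
noncomputable def cChunk (h : ℕ) : ℕ := Nat.rec (motive := fun _ => ℕ) (cT 0) (fun n _ => cT (Nat.succ n)) h
noncomputable def cF (i : ℕ) : ℕ := Nat.land (Nat.shiftRight (cChunk (Nat.shiftRight i 7)) (Nat.mul (Nat.land i 127) 24)) 16777215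
theorem cF_lt (i : ℕ) : cF i < 16777216 := land24_lt _
theorem cF_zero : cF 0 = 0 := by decide +kernel
def nDef : ℕ := 94
def nEv : ℕ := 299
def nW : ℕ := 62
def N : ℕ := 1
def ys : List ℕ := [nat_lit 0, nat_lit 1, nat_lit 2, nat_lit 3, nat_lit 4, nat_lit 5, nat_lit 6, nat_lit 7]
def xw : List ℕ := [nat_lit 7, nat_lit 7, nat_lit 5, nat_lit 2, nat_lit 6, nat_lit 0, nat_lit 1, nat_lit 3, nat_lit 4]
end Cfsg.Agent.Lib.ToddCox.ONX
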